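import Mathlib
import Groth.Agent.Lib.Helper7.EtH0.NormBC
import Groth.Agent.Lib.Helper7.EtH0.Stein
import Groth.Agent.Lib.Helper7.EtH0.GeomRed
import Groth.Agent.Lib.Helper7.GeomConn.SteinFibre
import Groth.Agent.Lib.Helper4.SecNbhd5
import Groth.Agent.Lib.Helper8.RegularLocal
import Groth.Agent.S2280
import Groth.Agent.S1535

set_option linter.style.haveILetI false
set_option linter.unusedVariables false
set_option linter.unusedSectionVars false
set_option autoImplicit false
set_option backward.isDefEq.respectTransparency.types false
set_option synthInstance.maxHeartbeats 400000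
set_option maxHeartbeats 1600000

universe u

/-! helper7: a smooth proper morphism with a section between connected schemes has geometrically integral fibres: the Stein factor is finite étale with a section, hence an isomorphism, and its formation commutes with base change to geometric points -/

open CategoryTheory CategoryTheory.Limits AlgebraicGeometry TopologicalSpace Opposite

namespace Groth.Agent.Helper7.SmProp

/-- a connected scheme smooth over a field is integral -/
theorem isIntegral_of_smooth_of_connected (K : Type u) [Field K] {Z : Scheme.{u}}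
    (q : Z ⟶ Spec (CommRingCat.of K)) [Smooth q] [ConnectedSpace Z] : IsIntegral Z := by
  haveI : LocallyOfFiniteType q := inferInstance
  haveI : IsNoetherianRing (CommRingCat.of K) := inferInstanceAs (IsNoetherianRing K)
  haveI : IsLocallyNoetherian (Spec (CommRingCat.of K)) := inferInstance
  haveI : IsLocallyNoetherian Z := LocallyOfFiniteType.isLocallyNoetherian q
  letI : Z.Over (Spec (CommRingCat.of K)) := ⟨q⟩
  haveI : Smooth (Z ↘ Spec (CommRingCat.of K)) := ‹Smooth q›
  refine ((Groth.Agent.S2280.result Z).2).mpr ⟨inferInstance, fun x => ?_⟩
  haveI := Groth.Agent.S1535.result K Z x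
  exact Groth.Agent.Helper8.RLR.isDomain _

section Main

variable {X S : Scheme.{u}} (f : X ⟶ S) [Smooth f] [IsProper f]

theorem het_of_smooth : ∀ t : S, (f.fiberToSpecResidueField t).appTop.hom.Etale := by
  haveI := Groth.Agent.Lib.Helper4.SecNbhd5.geometricallyReduced_of_smooth f
  exact fun t => Groth.Agent.Helper7.EtH0.etale_fibre_of_geomReduced f t

/-- the finite part of the Stein factorization is an isomorphism -/
theorem isIso_fromNormalization [ConnectedSpace X] [ConnectedSpace S] (σ : S ⟶ X)
    (hσ : σ ≫ f = 𝟙 S) : IsIso f.fromNormalization := by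
  haveI : Flat f := inferInstance
  haveI : LocallyOfFinitePresentation f := inferInstance
  obtain ⟨hfin, het⟩ :=
    Groth.Agent.Helper7.EtH0.isFinite_etale_fromNormalization f (het_of_smooth f)
  haveI := hfin
  haveI := het
  have hfac : f.toNormalization ≫ f.fromNormalization = f := f.toNormalization_fromNormalization
  haveI : IsProper f.toNormalization := by
    haveI : IsProper (f.toNormalization ≫ f.fromNormalization) := by rw [hfac]; infer_instance
    exact IsProper.of_comp f.toNormalization f.fromNormalization
  haveI : Surjective f.toNormalization := inferInstance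
  haveI : ConnectedSpace ↥f.normalization :=
    f.toNormalization.surjective.connectedSpace f.toNormalization.continuous
  let τ : S ⟶ f.normalization := σ ≫ f.toNormalization
  have hτ : τ ≫ f.fromNormalization = 𝟙 S := by
    change (σ ≫ f.toNormalization) ≫ f.fromNormalization = 𝟙 S
    rw [Category.assoc, hfac, hσ]
  haveI : Mono τ := mono_of_mono_fac hτ
  haveI : Etale (τ ≫ f.fromNormalization) := by rw [hτ]; infer_instance
  haveI : Etale τ := Etale.of_comp τ f.fromNormalization
  haveI : IsOpenImmersion τ := IsOpenImmersion.of_flat_of_mono τ
  haveI : IsClosedImmersion (τ ≫ f.fromNormalization) := by rw [hτ]; infer_instance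
  haveI : IsClosedImmersion τ := IsClosedImmersion.of_comp τ f.fromNormalization
  have hclopen : IsClopen (Set.range τ) :=
    ⟨τ.isClosedEmbedding.isClosed_range, τ.isOpenEmbedding.isOpen_range⟩
  have hne : (Set.range τ).Nonempty := Set.range_nonempty _
  have huniv : Set.range τ = Set.univ := hclopen.eq_univ hne
  haveI : Surjective τ := ⟨Set.range_eq_univ.mp huniv⟩
  haveI : IsIso τ := Flat.isIso_of_surjective_of_mono τ
  haveI : IsIso (τ ≫ f.fromNormalization) := by rw [hτ]; infer_instance
  exact IsIso.of_isIso_comp_left τ f.fromNormalization

/-- the base change to a geometric point is connected -/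
theorem connectedSpace_pullback [ConnectedSpace X] [ConnectedSpace S] (σ : S ⟶ X)
    (hσ : σ ≫ f = 𝟙 S) (K : Type u) [Field K] (y : Spec (CommRingCat.of K) ⟶ S) :
    ConnectedSpace ↥(pullback f y) := by
  haveI : Flat f := inferInstance
  haveI : LocallyOfFinitePresentation f := inferInstance
  haveI hiso : IsIso f.fromNormalization := isIso_fromNormalization f σ hσ
  haveI : IsNoetherianRing (CommRingCat.of K) := inferInstanceAs (IsNoetherianRing K)
  haveI : IsLocallyNoetherian (Spec (CommRingCat.of K)) := inferInstance
  haveI : IsIso (f.normalizationPullback y) :=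
    Groth.Agent.Helper7.EtH0.isIso_normalizationPullback f (het_of_smooth f) y
  haveI : IsIso (pullback.snd f.fromNormalization y) := inferInstance
  have h1 : f.normalizationPullback y ≫ pullback.snd _ _ =
      (pullback.snd f y).fromNormalization := f.normalizationPullback_snd y
  haveI : IsIso (pullback.snd f y).fromNormalization := by rw [← h1]; infer_instance
  haveI : Subsingleton ↥(Spec (CommRingCat.of K)) :=
    inferInstanceAs (Subsingleton (PrimeSpectrum K))
  haveI : Subsingleton ↥(pullback.snd f y).normalization :=
    ⟨fun a b => (pullback.snd f y).fromNormalization.isOpenEmbedding.injective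
      (Subsingleton.elim _ _)⟩
  haveI : Surjective f := ⟨fun s => ⟨σ s, by
    rw [← Scheme.Hom.comp_apply, hσ]; rfl⟩⟩
  haveI : Surjective (pullback.snd f y) := inferInstance
  haveI : Nonempty ↥(Spec (CommRingCat.of K)) := inferInstanceAs (Nonempty (PrimeSpectrum K))
  obtain ⟨pt⟩ := ‹Nonempty ↥(Spec (CommRingCat.of K))›
  obtain ⟨z, -⟩ := (pullback.snd f y).surjective pt
  have hpre := Groth.Agent.Helper7.GeomConn.ZC.isPreconnected_toNormalization_preimage
    (pullback.snd f y) ((pullback.snd f y).toNormalization z)
  have huniv : (pullback.snd f y).toNormalization ⁻¹' {(pullback.snd f y).toNormalization z} =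
      Set.univ := by
    ext w
    simp only [Set.mem_preimage, Set.mem_singleton_iff, Set.mem_univ, iff_true]
    exact Subsingleton.elim _ _
  rw [huniv] at hpre
  haveI : PreconnectedSpace ↥(pullback f y) := ⟨hpre⟩
  exact ⟨⟨z⟩⟩

/-- **a smooth proper morphism with a section between connected schemes is geometrically
integral** -/
theorem main [ConnectedSpace X] [ConnectedSpace S] (σ : S ⟶ X) (hσ : σ ≫ f = 𝟙 S) :
    GeometricallyIntegral f := by
  refine ⟨fun K _ y Z fst snd hpb => ?_⟩
  haveI : ConnectedSpace ↥(pullback f y) := connectedSpace_pullback f σ hσ K y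
  haveI : Smooth (pullback.snd f y) := inferInstance
  haveI : IsIntegral (pullback f y) := isIntegral_of_smooth_of_connected K (pullback.snd f y)
  exact AlgebraicGeometry.IsIntegral.of_isIso hpb.isoPullback.inv

end Main

end Groth.Agent.Helper7.SmProp
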